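import Mathlib.AlgebraicGeometry.IdealSheaf.Basic
import Mathlib.AlgebraicGeometry.Properties

/-!
The scheme-theoretic image of a morphism from a reduced scheme.
-/

set_option autoImplicit false

open CategoryTheory AlgebraicGeometry TopologicalSpace

universe u

namespace Groth.Agent.SchImage

variable {X Y : Scheme.{u}} [IsReduced X] (π : X ⟶ Y)

theorem ker_app_eq_vanishingIdeal (U : Y.affineOpens) :
    RingHom.ker (π.app U).hom =
      (Scheme.IdealSheafData.vanishingIdeal ⟨closure (Set.range π), isClosed_closure⟩).ideal U := by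
  rw [Scheme.IdealSheafData.vanishingIdeal_ideal]
  ext x
  rw [RingHom.mem_ker, ← basicOpen_eq_bot_iff, ← Scheme.preimage_basicOpen,
    PrimeSpectrum.mem_vanishingIdeal]
  constructor
  · intro h p hp
    by_contra hx
    have hmem : U.2.fromSpec p ∈ Y.basicOpen x := by
      show p ∈ U.2.fromSpec ⁻¹ᵁ Y.basicOpen x
      rw [U.2.fromSpec_preimage_basicOpen]
      exact hx
    obtain ⟨_, hy, z, rfl⟩ := mem_closure_iff.1 hp _ (Y.basicOpen x).2 hmem
    exact ((SetLike.ext_iff.1 h z).1 hy : z ∈ (⊥ : X.Opens))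
  · intro h
    refine le_bot_iff.1 fun z hz => ?_
    obtain ⟨p, hp⟩ : π z ∈ Set.range U.2.fromSpec := by
      rw [U.2.range_fromSpec]; exact Y.basicOpen_le x hz
    have hxp := h p (show U.2.fromSpec p ∈ closure (Set.range π) from hp ▸ subset_closure ⟨z, rfl⟩)
    have : p ∈ U.2.fromSpec ⁻¹ᵁ Y.basicOpen x := by
      show U.2.fromSpec p ∈ Y.basicOpen x
      rw [hp]; exact hz
    rw [U.2.fromSpec_preimage_basicOpen] at this
    exact this hxp

theorem ker_eq_vanishingIdeal :
    π.ker = Scheme.IdealSheafData.vanishingIdeal ⟨closure (Set.range π), isClosed_closure⟩ := by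
  rw [Scheme.Hom.ker, funext fun U => ker_app_eq_vanishingIdeal π U,
    Scheme.IdealSheafData.ofIdeals_ideal]

end Groth.Agent.SchImage
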